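import Groth.Prelude.Def_W4c5normfunctorschNorm
import Mathlib.RingTheory.Norm.Basic
import Mathlib.RingTheory.IsTensorProduct

/-! # Base change of polynomial laws along `R → Q` -/

universe u

open scoped TensorProduct
open TensorProduct

namespace Groth.Agent.NormicBC

variable {R : Type u} [CommRing R] {Q : Type u} [CommRing Q] [Algebra R Q]
  {X : Type u} [AddCommGroup X] [Module R X]
  {Y : Type u} [AddCommGroup Y] [Module R Y] [Module Q Y] [IsScalarTower R Q Y]

/-- `p ⊗ x ↦ p ⊗ g x` for semiring test algebras. -/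
noncomputable def bc (g : X →ₗ[R] Y) (S : Type u) [CommSemiring S] [Algebra R S] [Algebra Q S]
    [IsScalarTower R Q S] : S ⊗[R] X →ₗ[Q] S ⊗[Q] Y :=
  ((g.liftBaseChange Q).lTensor S) ∘ₗ
    ((TensorProduct.AlgebraTensorModule.cancelBaseChange R Q S S X).symm.toLinearMap.restrictScalars Q)

@[simp]
theorem bc_tmul (g : X →ₗ[R] Y) (S : Type u) [CommSemiring S] [Algebra R S] [Algebra Q S]
    [IsScalarTower R Q S] (s : S) (x : X) : bc g S (s ⊗ₜ[R] x) = s ⊗ₜ[Q] g x := by
  simp [bc]

theorem bcAlong_eq (g : X →ₗ[R] Y) (P : Type u) [CommRing P] [Algebra R P] [Algebra Q P]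
    [IsScalarTower R Q P] (z : P ⊗[R] X) : PolLaw.bcAlong (Q := Q) g P z = bc (Q := Q) g P z := rfl

theorem bc_nat (g : X →ₗ[R] Y) {S S' : Type u} [CommSemiring S] [Algebra R S] [Algebra Q S]
    [IsScalarTower R Q S] [CommSemiring S'] [Algebra R S'] [Algebra Q S'] [IsScalarTower R Q S']
    (φ : S →ₐ[Q] S') (z : S ⊗[R] X) :
    φ.toLinearMap.rTensor Y (bc g S z) = bc g S' ((φ.restrictScalars R).toLinearMap.rTensor X z) := by
  induction z using TensorProduct.induction_on with
  | zero => simp
  | add a b ha hb => simp only [map_add, ha, hb]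
  | tmul s x => simp

/-- `(q ⊗ s) ⊗ n ↦ s ⊗ q • n`. -/
noncomputable def back (S : Type u) [CommSemiring S] [Algebra R S] :
    (Q ⊗[R] S) ⊗[Q] Y →ₗ[R] S ⊗[R] Y :=
  (TensorProduct.comm R Y S).toLinearMap ∘ₗ
    ((TensorProduct.AlgebraTensorModule.cancelBaseChange R Q Q Y S).toLinearMap.restrictScalars R) ∘ₗ
      ((TensorProduct.comm Q (Q ⊗[R] S) Y).toLinearMap.restrictScalars R)

@[simp]
theorem back_tmul (S : Type u) [CommSemiring S] [Algebra R S] (q : Q) (s : S) (y : Y) :
    back S ((q ⊗ₜ[R] s) ⊗ₜ[Q] y) = s ⊗ₜ[R] (q • y) := by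
  simp [back]

theorem back_nat {S S' : Type u} [CommSemiring S] [Algebra R S] [CommSemiring S'] [Algebra R S']
    (φ : S →ₐ[R] S') (w : (Q ⊗[R] S) ⊗[Q] Y) :
    φ.toLinearMap.rTensor Y (back S w) =
      back S' ((Algebra.TensorProduct.map (AlgHom.id Q Q) φ).toLinearMap.rTensor Y w) := by
  induction w using TensorProduct.induction_on with
  | zero => simp
  | add a b ha hb => simp only [map_add, ha, hb]
  | tmul t y =>
    induction t using TensorProduct.induction_on with
    | zero => simp
    | add a b ha hb => simp only [TensorProduct.add_tmul, map_add, ha, hb]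
    | tmul q s => simp

theorem back_smul_one (S : Type u) [CommSemiring S] [Algebra R S] (r : S)
    (w : (Q ⊗[R] S) ⊗[Q] Y) :
    back S ((1 ⊗ₜ[R] r : Q ⊗[R] S) • w) = r • back S w := by
  induction w using TensorProduct.induction_on with
  | zero => simp
  | add a b ha hb => simp only [smul_add, map_add, ha, hb]
  | tmul t y =>
    induction t using TensorProduct.induction_on with
    | zero => simp
    | add a b ha hb => simp only [TensorProduct.add_tmul, smul_add, map_add, ha, hb]
    | tmul q s => simp [TensorProduct.smul_tmul']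

/-- `1 ⊗ -` into the base change. -/
noncomputable def inr (S : Type u) [CommSemiring S] [Algebra R S] : S →ₐ[R] Q ⊗[R] S :=
  Algebra.TensorProduct.includeRight

@[simp]
theorem inr_apply (S : Type u) [CommSemiring S] [Algebra R S] (s : S) :
    (inr S : S →ₐ[R] Q ⊗[R] S) s = 1 ⊗ₜ s := rfl

/-- multiplication `Q ⊗ S → S`. -/
noncomputable def mult (S : Type u) [CommSemiring S] [Algebra R S] [Algebra Q S]
    [IsScalarTower R Q S] : Q ⊗[R] S →ₐ[Q] S :=
  Algebra.TensorProduct.lift (Algebra.ofId Q S) (AlgHom.id R S) (fun _ _ => Commute.all _ _)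

@[simp]
theorem mult_tmul (S : Type u) [CommSemiring S] [Algebra R S] [Algebra Q S] [IsScalarTower R Q S]
    (q : Q) (s : S) : mult S (q ⊗ₜ[R] s) = q • s := by
  simp [mult, Algebra.smul_def]

theorem bc_back {Z : Type u} [AddCommGroup Z] [Module R Z] (φ : Z →ₗ[R] Y)
    (S : Type u) [CommSemiring S] [Algebra R S] [Algebra Q S] [IsScalarTower R Q S]
    (w : (Q ⊗[R] S) ⊗[Q] Y) (z : S ⊗[R] Z) (h : back S w = φ.lTensor S z) :
    (mult S).toLinearMap.rTensor Y w = bc φ S z := by
  have h1 : ∀ w : (Q ⊗[R] S) ⊗[Q] Y, (mult S).toLinearMap.rTensor Y w = bc (Q := Q) (LinearMap.id (R := R) (M := Y)) S (back S w) := by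
    intro w
    induction w using TensorProduct.induction_on with
    | zero => simp
    | add a b ha hb => simp only [map_add, ha, hb]
    | tmul t y =>
      induction t using TensorProduct.induction_on with
      | zero => simp
      | add a b ha hb => simp only [TensorProduct.add_tmul, map_add, ha, hb]
      | tmul q s => simp [TensorProduct.smul_tmul]
  rw [h1, h]
  clear h h1 w
  induction z using TensorProduct.induction_on with
  | zero => simp
  | add a b ha hb => simp only [map_add, ha, hb]
  | tmul s x => simp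

theorem lTensor_back {Z : Type u} [AddCommGroup Z] [Module R Z] [Module Q Z] [IsScalarTower R Q Z]
    (ψ : Y →ₗ[Q] Z) (S : Type u) [CommSemiring S] [Algebra R S] (w : (Q ⊗[R] S) ⊗[Q] Y) :
    (ψ.restrictScalars R).lTensor S (back S w) = back S (ψ.lTensor (Q ⊗[R] S) w) := by
  induction w using TensorProduct.induction_on with
  | zero => simp
  | add a b ha hb => simp only [map_add, ha, hb]
  | tmul t y =>
    induction t using TensorProduct.induction_on with
    | zero => simp
    | add a b ha hb => simp only [TensorProduct.add_tmul, map_add, ha, hb]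
    | tmul q s => simp

theorem back_bc_inr (g : X →ₗ[R] Y) (S : Type u) [CommSemiring S] [Algebra R S] (z : S ⊗[R] X) :
    back S (bc g (Q ⊗[R] S) ((inr S).toLinearMap.rTensor X z)) = g.lTensor S z := by
  induction z using TensorProduct.induction_on with
  | zero => simp
  | add a b ha hb => simp only [map_add, ha, hb]
  | tmul s x => simp

theorem bc_bijective {g : X →ₗ[R] Y} (hg : IsBaseChange Q g) (S : Type u) [CommSemiring S]
    [Algebra R S] [Algebra Q S] [IsScalarTower R Q S] : Function.Bijective (bc (Q := Q) g S) := by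
  let e : S ⊗[R] X ≃ₗ[Q] S ⊗[Q] Y :=
    ((TensorProduct.AlgebraTensorModule.cancelBaseChange R Q S S X).symm.restrictScalars Q).trans
      (hg.equiv.lTensor S)
  have h : ∀ z, bc g S z = e z := by
    intro z
    induction z using TensorProduct.induction_on with
    | zero => simp
    | add a b ha hb => simp only [map_add, ha, hb]
    | tmul s x => simp [e, IsBaseChange.equiv_tmul]
  rw [show (bc g S : _ → _) = e from funext h]
  exact e.bijective

end Groth.Agent.NormicBC
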