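import Groth.Agent.NormicBC.Basic

/-! # Universal normic pairs commute with base change -/

universe u

open scoped TensorProduct
open TensorProduct

namespace Groth.Agent.NormicBC

variable {R R' Q Q' : Type u} [CommRing R] [CommRing R'] [Algebra R R']
    [CommRing Q] [Algebra R Q] [CommRing Q'] [Algebra R Q'] [Algebra Q Q'] [Algebra R' Q']
    [IsScalarTower R Q Q'] [IsScalarTower R R' Q']
    {M' : Type u} [AddCommGroup M'] [Module R M'] [Module R' M'] [IsScalarTower R R' M']
    {M'' : Type u} [AddCommGroup M''] [Module R M''] [Module R' M''] [Module Q M''] [Module Q' M'']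
    [IsScalarTower R R' M''] [IsScalarTower R Q M''] [IsScalarTower R' Q' M''] [IsScalarTower Q Q' M'']
    (f : M' →ₗ[R'] M'')

variable (R Q') in
/-- `R' → Q'` as an `R`-linear map. -/
noncomputable def iota (R' : Type u) [CommRing R'] [Algebra R R'] [Algebra R' Q']
    [IsScalarTower R R' Q'] : R' →ₗ[R] Q' := (IsScalarTower.toAlgHom R R' Q').toLinearMap

theorem act_bc (S : Type u) [CommSemiring S] [Algebra R S] [Algebra Q S] [IsScalarTower R Q S]
    (x : S ⊗[R] R') (z : S ⊗[R] M') :
    bc (Q := Q) (f.restrictScalars R) S (PolLaw.actEnd M' S x z) =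
      PolLaw.actEnd M'' S (bc (Q := Q) (iota R Q' R') S x) (bc (Q := Q) (f.restrictScalars R) S z) := by
  induction x using TensorProduct.induction_on with
  | zero => simp
  | add a b ha hb => simp only [map_add, LinearMap.add_apply, ha, hb]
  | tmul s b =>
    induction z using TensorProduct.induction_on with
    | zero => simp
    | add a c ha hc => simp only [map_add, ha, hc]
    | tmul t m => simp [iota]

theorem isBaseChange_iota [Algebra.IsPushout R R' Q Q'] : IsBaseChange Q (iota R Q' R') :=
  (Algebra.IsPushout.symm (inferInstance : Algebra.IsPushout R R' Q Q')).out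

theorem free_top [Algebra.IsPushout R R' Q Q'] [Module.Free R R'] : Module.Free Q Q' :=
  Module.Free.of_equiv (isBaseChange_iota (R := R) (R' := R')).equiv

theorem norm_bc [Algebra.IsPushout R R' Q Q'] (P : Type u) [CommRing P] [Algebra R P] [Algebra Q P]
    [IsScalarTower R Q P] (x : P ⊗[R] R') :
    Algebra.norm P (bc (Q := Q) (iota R Q' R') P x) = Algebra.norm P x := by
  have hpo : Algebra.IsPushout R Q R' Q' := Algebra.IsPushout.symm inferInstance
  let e : P ⊗[R] R' ≃ₐ[P] P ⊗[Q] Q' :=
    (Algebra.TensorProduct.cancelBaseChange R Q P P R').symm.trans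
      (Algebra.TensorProduct.congr AlgEquiv.refl (Algebra.IsPushout.equiv R Q R' Q'))
  have he : ∀ w : P ⊗[R] R', bc (Q := Q) (iota R Q' R') P w = e w := by
    intro w
    induction w using TensorProduct.induction_on with
    | zero => simp
    | add a b ha hb => rw [map_add, map_add, ha, hb]
    | tmul p b => simp [iota, e, Algebra.IsPushout.equiv_tmul]
  rw [he, Algebra.norm_eq_of_algEquiv]

theorem isBaseChange_restrict [Algebra.IsPushout R R' Q Q'] (hf : IsBaseChange Q' f) :
    IsBaseChange Q (f.restrictScalars R) := by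
  haveI : IsScalarTower R Q' M'' := IsScalarTower.of_algebraMap_smul fun r x => by
    rw [IsScalarTower.algebraMap_apply R R' Q', algebraMap_smul, algebraMap_smul]
  let e : Q ⊗[R] M' ≃ₗ[R] M'' :=
    (TensorProduct.comm R Q M').trans
      (((TensorProduct.AlgebraTensorModule.cancelBaseChange R R' R' M' Q).symm.restrictScalars R).trans
        (((LinearEquiv.lTensor M' (Algebra.IsPushout.equiv R R' Q Q').toLinearEquiv).restrictScalars R).trans
          (((TensorProduct.comm R' M' Q').restrictScalars R).trans (hf.equiv.restrictScalars R))))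
  have he : ∀ x, (f.restrictScalars R).liftBaseChange Q x = e x := by
    intro x
    induction x using TensorProduct.induction_on with
    | zero => simp
    | add a b ha hb => simp only [map_add, ha, hb]
    | tmul q m =>
      simp [e, IsBaseChange.equiv_tmul, Algebra.IsPushout.equiv_tmul]
  refine IsBaseChange.of_equiv (LinearEquiv.ofBijective ((f.restrictScalars R).liftBaseChange Q) ?_) ?_
  · rw [show (((f.restrictScalars R).liftBaseChange Q) : _ → _) = e from funext he]
    exact e.bijective
  · intro x; simp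

variable {N : Type u} [AddCommGroup N] [Module R N] (ν : M' →ₚₗ[R] N)
    {N'' : Type u} [AddCommGroup N''] [Module R N''] [Module Q N''] [IsScalarTower R Q N'']
    (ν'' : M'' →ₚₗ[Q] N'')

/-- Restriction of a law over `Q` to `R`. -/
noncomputable def resLaw : M' →ₚₗ[R] N'' where
  toFun' S _ _ m := back S (ν''.toFun' (Q ⊗[R] S)
    (bc (f.restrictScalars R) (Q ⊗[R] S) ((inr S).toLinearMap.rTensor M' m)))
  isCompat' {S} _ _ {S'} _ _ φ := by
    funext m
    simp only [Function.comp_apply]
    rw [back_nat, PolynomialLaw.isCompat_apply', bc_nat]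
    congr 2
    induction m using TensorProduct.induction_on with
    | zero => simp
    | add a b ha hb => simp only [map_add, ha, hb]
    | tmul s x => simp

theorem isNormic_resLaw [Algebra.IsPushout R R' Q Q'] [Module.Free R R'] [Module.Finite R R']
    (h : PolLaw.IsNormic Q' ν'') : PolLaw.IsNormic R' (resLaw (R := R) f ν'') := by
  intro P _ _ x m
  show back P (ν''.toFun' (Q ⊗[R] P) _) = _ • back P (ν''.toFun' (Q ⊗[R] P) _)
  rw [PolLaw.rTensor_actEnd M' (inr P), act_bc (Q := Q) (Q' := Q'), h, norm_bc,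
    ← PolLaw.detAct_self, PolLaw.detAct_map, PolLaw.detAct_self]
  exact back_smul_one P _ _

theorem resLaw_compat {u : N →ₗ[R] N''} (hu : PolLaw.postcomp u ν = resLaw f ν'')
    (S : Type u) [CommSemiring S] [Algebra R S] [Algebra Q S] [IsScalarTower R Q S] (m : S ⊗[R] M') :
    ν''.toFun' S (bc (Q := Q) (f.restrictScalars R) S m) = bc (Q := Q) u S (ν.toFun' S m) := by
  have h : back S (ν''.toFun' (Q ⊗[R] S)
      (bc (f.restrictScalars R) (Q ⊗[R] S) ((inr S).toLinearMap.rTensor M' m))) =
      u.lTensor S (ν.toFun' S m) := by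
    have := congrArg (fun F : M' →ₚₗ[R] N'' => F.toFun' S m) hu
    exact this.symm
  rw [← bc_back u S _ _ h, PolynomialLaw.isCompat_apply', bc_nat]
  congr 2
  clear h
  induction m using TensorProduct.induction_on with
  | zero => simp
  | add a b ha hb => simp only [map_add, ← ha, ← hb]
  | tmul s x => simp

variable (Q N) in
/-- `n ↦ 1 ⊗ n`. -/
noncomputable abbrev mk1 : N →ₗ[R] Q ⊗[R] N := TensorProduct.mk R Q N 1

variable {f}
variable (hb : IsBaseChange Q (f.restrictScalars R))

/-- `S ⊗[R] M' ≃ S ⊗[Q] M''`. -/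
noncomputable def bcEquiv (S : Type u) [CommSemiring S] [Algebra R S] [Algebra Q S]
    [IsScalarTower R Q S] : S ⊗[R] M' ≃ₗ[Q] S ⊗[Q] M'' :=
  LinearEquiv.ofBijective (bc (f.restrictScalars R) S) (bc_bijective hb S)

/-- Extension of a law over `R` to `Q`. -/
noncomputable def extLaw : M'' →ₚₗ[Q] Q ⊗[R] N where
  toFun' S _ _ :=
    letI : Algebra R S := Algebra.compHom S (algebraMap R Q)
    haveI : IsScalarTower R Q S := IsScalarTower.of_algebraMap_eq' rfl
    fun z => bc (mk1 Q N) S (ν.toFun' S ((bcEquiv hb S).symm z))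
  isCompat' {S} _ _ {S'} _ _ φ := by
    letI : Algebra R S := Algebra.compHom S (algebraMap R Q)
    haveI : IsScalarTower R Q S := IsScalarTower.of_algebraMap_eq' rfl
    letI : Algebra R S' := Algebra.compHom S' (algebraMap R Q)
    haveI : IsScalarTower R Q S' := IsScalarTower.of_algebraMap_eq' rfl
    funext z
    obtain ⟨m, rfl⟩ := (bcEquiv hb S).surjective z
    simp only [Function.comp_apply, LinearEquiv.symm_apply_apply]
    rw [bc_nat, PolynomialLaw.isCompat_apply']
    congr 2
    rw [LinearEquiv.eq_symm_apply]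
    exact (bc_nat _ φ m).symm

theorem extLaw_apply (S : Type u) [CommSemiring S] [i : Algebra R S] [Algebra Q S]
    [IsScalarTower R Q S] (m : S ⊗[R] M') :
    (extLaw ν hb).toFun' S (bc (f.restrictScalars R) S m) = bc (mk1 Q N) S (ν.toFun' S m) := by
  obtain rfl : i = Algebra.compHom S (algebraMap R Q) :=
    Algebra.algebra_ext _ _ fun r => IsScalarTower.algebraMap_apply R Q S r
  letI : Algebra R S := Algebra.compHom S (algebraMap R Q)
  show bc (mk1 Q N) S (ν.toFun' S ((bcEquiv hb S).symm (bcEquiv hb S m))) = _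
  rw [LinearEquiv.symm_apply_apply]

theorem isNormic_extLaw [Algebra.IsPushout R R' Q Q'] (h : PolLaw.IsNormic R' ν) :
    PolLaw.IsNormic Q' (extLaw ν hb) := by
  intro P _ _ x z
  letI : Algebra R P := Algebra.compHom P (algebraMap R Q)
  haveI : IsScalarTower R Q P := IsScalarTower.of_algebraMap_eq' rfl
  obtain ⟨x, rfl⟩ := (bc_bijective (isBaseChange_iota (R := R) (R' := R') (Q' := Q') (Q := Q)) P).2 x
  obtain ⟨z, rfl⟩ := (bc_bijective hb P).2 z
  rw [← act_bc, extLaw_apply, extLaw_apply, h, norm_bc]
  generalize ν.toFun' P z = w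
  induction w using TensorProduct.induction_on with
  | zero => simp
  | add a b ha hb => simp only [smul_add, map_add, ha, hb]
  | tmul s n => simp [TensorProduct.smul_tmul']

theorem isNormic_postcomp {Z : Type u} [AddCommGroup Z] [Module R Z] (g : N →ₗ[R] Z)
    (h : PolLaw.IsNormic R' ν) : PolLaw.IsNormic R' (PolLaw.postcomp g ν) := by
  intro P _ _ x m
  show g.lTensor P (ν.toFun' P _) = _ • g.lTensor P (ν.toFun' P m)
  rw [h]
  exact (g.baseChange P).map_smul _ _

include hb in
theorem isUniv_baseChange [Algebra.IsPushout R R' Q Q'] [Module.Free R R'] [Module.Finite R R']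
    (hν : PolLaw.IsUnivNormic R' ν) (hν'' : PolLaw.IsUnivNormic Q' ν'') :
    ∃ u : N →ₗ[R] N'',
      (∀ (P : Type u) [CommRing P] [Algebra R P] [Algebra Q P] [IsScalarTower R Q P] (m : P ⊗[R] M'),
          ν''.toFun' P (PolLaw.bcAlong (f.restrictScalars R) P m) = PolLaw.bcAlong u P (ν.toFun' P m)) ∧
      IsBaseChange Q u := by
  obtain ⟨u, hu, -⟩ := hν.2 N'' (resLaw f ν'') (isNormic_resLaw f ν'' hν''.1)
  refine ⟨u, fun P _ _ _ _ m => resLaw_compat f ν ν'' hu P m, ?_⟩
  obtain ⟨ψ, hψ, -⟩ := hν''.2 (Q ⊗[R] N) (extLaw ν hb) (isNormic_extLaw ν hb hν.1)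
  have hψ' : ∀ (S : Type u) [CommSemiring S] [Algebra Q S] (z : S ⊗[Q] M''),
      ψ.lTensor S (ν''.toFun' S z) = (extLaw ν hb).toFun' S z := fun S _ _ z =>
    congrArg (fun F : M'' →ₚₗ[Q] Q ⊗[R] N => F.toFun' S z) hψ
  have h1 : (u.liftBaseChange Q).comp ψ = LinearMap.id := by
    obtain ⟨φ, -, huniq⟩ := hν''.2 N'' ν'' hν''.1
    refine (huniq _ ?_).trans (huniq _ ?_).symm
    · ext S _ _ z
      show ((u.liftBaseChange Q).comp ψ).lTensor S (ν''.toFun' S z) = _
      rw [LinearMap.lTensor_comp, LinearMap.comp_apply, hψ']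
      letI : Algebra R S := Algebra.compHom S (algebraMap R Q)
      haveI : IsScalarTower R Q S := IsScalarTower.of_algebraMap_eq' rfl
      obtain ⟨m, rfl⟩ := (bc_bijective hb S).2 z
      rw [extLaw_apply, resLaw_compat f ν ν'' hu S m]
      generalize ν.toFun' S m = w
      induction w using TensorProduct.induction_on with
      | zero => simp
      | add a b ha hb => simp only [map_add, ha, hb]
      | tmul s n => simp
    · ext S _ _ z
      show (LinearMap.id : N'' →ₗ[Q] N'').lTensor S (ν''.toFun' S z) = _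
      rw [LinearMap.lTensor_id]; rfl
  have h2 : (ψ.restrictScalars R).comp u = mk1 Q N := by
    obtain ⟨φ, -, huniq⟩ :=
      hν.2 (Q ⊗[R] N) (PolLaw.postcomp (mk1 Q N) ν) (isNormic_postcomp ν _ hν.1)
    refine (huniq _ ?_).trans (huniq _ rfl).symm
    ext S _ _ m
    show ((ψ.restrictScalars R).comp u).lTensor S (ν.toFun' S m) = (mk1 Q N).lTensor S (ν.toFun' S m)
    have hu' : u.lTensor S (ν.toFun' S m) = (resLaw f ν'').toFun' S m :=
      congrArg (fun F : M' →ₚₗ[R] N'' => F.toFun' S m) hu
    rw [LinearMap.lTensor_comp, LinearMap.comp_apply, hu']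
    show (ψ.restrictScalars R).lTensor S (back S _) = _
    rw [lTensor_back, hψ', extLaw_apply, ← PolynomialLaw.isCompat_apply', back_bc_inr]
  have hbij : Function.Bijective (u.liftBaseChange Q) := by
    have h3 : ψ.comp (u.liftBaseChange Q) = LinearMap.id := by
      apply TensorProduct.AlgebraTensorModule.ext
      intro q n
      have := congrArg (fun F : N →ₗ[R] Q ⊗[R] N => F n) h2
      simp only [LinearMap.comp_apply, LinearMap.coe_restrictScalars] at this
      simp [this, TensorProduct.smul_tmul']
    exact Function.bijective_iff_has_inverse.2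
      ⟨ψ, fun x => LinearMap.congr_fun h3 x, fun x => LinearMap.congr_fun h1 x⟩
  exact IsBaseChange.of_equiv (LinearEquiv.ofBijective _ hbij) (fun x => by simp)

end Groth.Agent.NormicBC
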